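import Cfsg.Agent.Lib.TensorSympMax.Plane

/-!
A root element from an involution with a non-zero contraction, in an algebra with a square-zero corner.
-/

set_option autoImplicit false
set_option linter.unusedSectionVars false

namespace CfsgLib.TensorSympMax

variable {F : Type*} [Field F] {E R : Type*} [Ring E] [Algebra F E] [Ring R] [Algebra F R]

/-- An involution and a corner. -/
structure CornerData (c : E →ₗ[F] R) (g : R) (α : E) (M : Set R) : Prop where
  cc : ∀ A B, c A * c B = 0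
  cgc : ∀ A B, c A * g * c B = c (A * α * B)
  gg : g * g = 1
  g_mem : g ∈ M
  mul : ∀ {X Y}, X ∈ M → Y ∈ M → X * Y ∈ M
  one_add : ∀ t : F, 1 + c (t • 1) ∈ M

namespace CornerData

variable {c : E →ₗ[F] R} {g : R} {α : E} {M : Set R} (D : CornerData c g α M)
include D

theorem conj_mem (t : F) : 1 + g * c (t • 1) * g ∈ M := by
  have h := D.mul (D.mul D.g_mem (D.one_add t)) D.g_mem
  rwa [mul_add, mul_one, add_mul, D.gg] at h

/-- The nilpotent case. -/
theorem nil_mem (h3 : α * α * α = 0) : 1 + c (1 - (2 : F) • (α * α)) ∈ M := by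
  set C := c 1 with hC
  set N := g * C * g with hN
  have hp : ∀ t : F, c (t • (1 : E)) = t • C := fun t => map_smul c t 1
  have h1 : 1 + N ∈ M := by simpa [hp, ← hN] using D.conj_mem 1
  have h2 : 1 - N ∈ M := by simpa [hp, ← hN, sub_eq_add_neg] using D.conj_mem (-1)
  have k1 : 1 + C ∈ M := by simpa [hp] using D.one_add 1
  have k2 : 1 - C ∈ M := by simpa [hp, sub_eq_add_neg] using D.one_add (-1)
  have CC : C * C = 0 := D.cc 1 1
  have z0 : ∀ A B, c A * (g * (c B * g)) = c (A * α * B) * g := fun A B => by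
    rw [← mul_assoc, ← mul_assoc, D.cgc]
  have CNC : ∀ A, c A * N * C = c (A * α * α) := fun A => by
    rw [hN, hC, mul_assoc g, z0, D.cgc, mul_one, mul_one]
  have CAN : ∀ A, c A * N = c (A * α) * g := fun A => by rw [hN, hC, mul_assoc g, z0, mul_one]
  have NN : N * N = 0 := by
    rw [hN, show g * C * g * (g * C * g) = g * (C * (g * g) * C) * g by simp only [mul_assoc], D.gg, mul_one, CC,
      mul_zero, zero_mul]
  set y := (1 + N) * C * (1 - N) with hy
  have yy : y * y = 0 := by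
    rw [hy, show (1 + N) * C * (1 - N) * ((1 + N) * C * (1 - N)) =
      (1 + N) * (C * ((1 - N) * (1 + N)) * C) * (1 - N) by simp only [mul_assoc],
      show (1 - N) * (1 + N) = 1 - N * N by noncomm_ring, NN, sub_zero, mul_one, CC, mul_zero, zero_mul]
  have hyC : y * C = -c (α * α) := by
    rw [hy, show (1 + N) * C * (1 - N) * C = (1 + N) * (C * C - C * N * C) by noncomm_ring, CC, hC, CNC, one_mul,
      zero_sub, mul_neg, add_mul, one_mul, hN, hC, mul_assoc g, mul_assoc g, mul_assoc (c 1) g, ← mul_assoc (c 1),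
      D.cgc, one_mul, ← mul_assoc, h3, map_zero, mul_zero, add_zero]
  have hCy : C * y = c (α * α) := by
    rw [hy, show C * ((1 + N) * C * (1 - N)) = C * C * (1 - N) + C * N * C * (1 - N) by noncomm_ring, CC, zero_mul,
      zero_add, hC, CNC, one_mul, mul_sub, mul_one, CAN, h3, map_zero, zero_mul, sub_zero]
  have hA2y : c (α * α) * C = 0 := D.cc _ _
  have hx : 1 + y ∈ M := by
    have h := D.mul (D.mul h1 k1) h2
    rwa [show (1 + N) * (1 + C) * (1 - N) = 1 - N * N + y by rw [hy]; noncomm_ring, NN, sub_zero] at h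
  have hx' : 1 - y ∈ M := by
    have h := D.mul (D.mul h1 k2) h2
    rwa [show (1 + N) * (1 - C) * (1 - N) = 1 - N * N - y by rw [hy]; noncomm_ring, NN, sub_zero] at h
  have hz := D.mul (D.mul hx k1) hx'
  have hyc2 : c (α * α) * y = 0 := by
    rw [hy, show c (α * α) * ((1 + N) * C * (1 - N)) =
      c (α * α) * C * (1 - N) + c (α * α) * N * C * (1 - N) by noncomm_ring, hA2y, zero_mul, zero_add, CNC, h3,
      zero_mul, map_zero, zero_mul]
  rwa [show (1 + y) * (1 + C) * (1 - y) = 1 - y * y + C + y * C - C * y - y * C * y by noncomm_ring, yy, hyC,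
    hCy, neg_mul, hyc2, neg_zero, sub_zero, sub_zero,
    show (1 : R) + C + -c (α * α) - c (α * α) = 1 + c (1 - (2 : F) • (α * α)) by
      rw [map_sub, map_smul, ← hC, two_smul]; abel] at hz

section Semisimple

variable {σ : F}

theorem units (hσ : σ ≠ 0) {P : E} (hαP : α * P = α) (hPα : P * α = α) (hPP : P * P = P)
    (hαα : α * α = σ • P) :
    MatUnits (σ⁻¹ • (c P * (g * c P * g))) (c P) (σ⁻¹ • (g * c P * g)) (σ⁻¹ • (g * c P * g * c P))
      (c (1 - P)) (g * c (1 - P) * g) := by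
  set X := c P with hX
  set Z := c (1 - P) with hZ
  set Y := g * X * g with hY
  set T := g * Z * g with hT
  have gg : ∀ a : R, a * g * g = a := fun a => by rw [mul_assoc, D.gg, mul_one]
  have xgz : X * g * Z = 0 := by rw [hX, hZ, D.cgc, hPα, mul_sub, mul_one, hαP, sub_self, map_zero]
  have zgx : Z * g * X = 0 := by rw [hX, hZ, D.cgc, mul_assoc, hαP, sub_mul, one_mul, hPα, sub_self, map_zero]
  have zgz : Z * g * Z = 0 := by rw [hZ, D.cgc, sub_mul, one_mul, hPα, sub_self, zero_mul, map_zero]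
  have xgx : X * g * X = c α := by rw [hX, D.cgc, hPα, hαP]
  have XX : X * X = 0 := D.cc _ _
  have XZ : X * Z = 0 := D.cc _ _
  have ZX : Z * X = 0 := D.cc _ _
  have ZZ : Z * Z = 0 := D.cc _ _
  have XT : X * T = 0 := by rw [hT, ← mul_assoc, ← mul_assoc, xgz, zero_mul]
  have ZY : Z * Y = 0 := by rw [hY, ← mul_assoc, ← mul_assoc, zgx, zero_mul]
  have ZT : Z * T = 0 := by rw [hT, ← mul_assoc, ← mul_assoc, zgz, zero_mul]
  have YZ : Y * Z = 0 := by rw [hY, mul_assoc, mul_assoc, ← mul_assoc X, xgz, mul_zero]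
  have TX : T * X = 0 := by rw [hT, mul_assoc, mul_assoc, ← mul_assoc Z, zgx, mul_zero]
  have TZ : T * Z = 0 := by rw [hT, mul_assoc, mul_assoc, ← mul_assoc Z, zgz, mul_zero]
  have gxg : ∀ U V : R, U * V = 0 → g * U * g * (g * V * g) = 0 := fun U V h => by
    rw [← mul_assoc, ← mul_assoc, gg, mul_assoc g U V, h, mul_zero, zero_mul]
  have YY : Y * Y = 0 := gxg X X XX
  have YT : Y * T = 0 := gxg X Z XZ
  have TY : T * Y = 0 := gxg Z X ZX
  have TT : T * T = 0 := gxg Z Z ZZ
  have XYX : X * Y * X = σ • X := by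
    rw [hY, ← mul_assoc, ← mul_assoc, xgx, hX, D.cgc, hαα, smul_mul_assoc, hPP, map_smul]
  have YXY : Y * X * Y = σ • Y := by
    have : Y * X * Y = g * (X * Y * X) * g := by simp only [hY, mul_assoc]
    rw [this, XYX, mul_smul_comm, smul_mul_assoc]
  have z : ∀ {u v : R}, u * v = 0 → ∀ a, a * u * v = 0 := fun h a => by rw [mul_assoc, h, mul_zero]
  have aXYX : ∀ a, a * X * Y * X = σ • (a * X) := fun a => by
    rw [mul_assoc a X Y, mul_assoc a, XYX, mul_smul_comm]
  have aYXY : ∀ a, a * Y * X * Y = σ • (a * Y) := fun a => by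
    rw [mul_assoc a Y X, mul_assoc a, YXY, mul_smul_comm]
  constructor <;>
    simp only [smul_mul_assoc, mul_smul_comm, smul_smul, ← mul_assoc, XX, XZ, ZX, ZZ, XT, ZY, ZT, YZ, TX, TZ, YY,
      YT, TY, TT, z XX, z XZ, z ZX, z ZZ, z XT, z ZY, z ZT, z YZ, z TX, z TZ, z YY, z YT, z TY, z TT, XYX, YXY,
      aXYX, aYXY, zero_mul, smul_zero, inv_mul_cancel₀ hσ, one_smul, inv_mul_cancel_right₀ hσ, mul_inv_cancel₀ hσ]

theorem semisimple_mem (hσ : σ ≠ 0) {P : E} (hαP : α * P = α) (hPα : P * α = α) (hPP : P * P = P)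
    (hαα : α * α = σ • P) {t : F} (ht : t ≠ 0) : 1 + c ((t * t - 1) • P) ∈ M := by
  have U := D.units hσ hαP hPα hPP hαα
  set el := phi6 (F := F) (σ⁻¹ • (c P * (g * c P * g))) (c P) (σ⁻¹ • (g * c P * g)) (σ⁻¹ • (g * c P * g * c P))
      (c (1 - P)) (g * c (1 - P) * g) with hel
  have hT : ∀ s : F, el 1 s 0 1 s 0 ∈ M := fun s => by
    convert D.one_add s using 1
    simp only [hel, phi6, sub_self, zero_smul, add_zero, ← map_smul]
    rw [add_assoc, ← map_add, ← smul_add, add_sub_cancel]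
  have hH : ∀ s : F, el 1 0 s 1 0 (s / σ) ∈ M := fun s => by
    convert D.conj_mem (s / σ) using 1
    simp only [hel, phi6, sub_self, zero_div, zero_mul, zero_smul, add_zero, zero_add, smul_smul]
    rw [← div_eq_mul_inv, add_assoc, ← smul_add, ← add_mul, ← mul_add, ← map_add, add_sub_cancel, map_smul,
      mul_smul_comm, smul_mul_assoc]
  have h1 := D.mul (D.mul (D.mul (hH (-((t - 1) / t))) (hT 1)) (hH (t - 1))) (hT (-t⁻¹))
  have h2 := D.mul (D.mul (D.mul (hT t⁻¹) (hH (-(t - 1)))) (hT (-1))) (hH ((t - 1) / t))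
  have h3 := D.mul (D.mul (D.mul h1 (hT 1)) h2) (hT (-1))
  simp only [hel, phi6_mul U] at h3
  convert h3 using 1
  rw [show (1 : R) + c ((t * t - 1) • P) = el 1 (t * t - 1) 0 1 0 0 by
    simp only [hel, phi6, sub_self, zero_smul, add_zero, map_smul], hel]
  congr 1
  all_goals (field_simp; ring)

end Semisimple

/-- A root element outside the scalars. -/
theorem exists_root (h2 : (2 : F) ≠ 0) {σ : F} (hσ : α * α * α = σ • α) (hne : α * α ≠ 0)
    (hnu : ¬ IsUnit α) {t : F} (ht : t ≠ 0) (ht1 : t * t ≠ 1) :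
    ∃ B : E, 1 + c B ∈ M ∧ ∀ l : F, B ≠ l • 1 := by
  by_cases h0 : σ = 0
  · have h3 : α * α * α = 0 := by rw [hσ, h0, zero_smul]
    refine ⟨_, D.nil_mem h3, fun l hl => hne ?_⟩
    have h5 : (2 : F) • (α * α) = (1 - l) • (1 : E) := by linear_combination (norm := module) -hl
    by_cases h6 : 1 - l = 0
    · rw [h6, zero_smul] at h5
      exact (smul_eq_zero.1 h5).resolve_left h2
    · have h7 : α * α * α = ((1 - l) / 2) • α := by
        have h8 := congrArg (fun Z => (2 : F)⁻¹ • (Z * α)) h5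
        simpa [smul_mul_assoc, smul_smul, inv_mul_cancel₀ h2, div_eq_inv_mul] using h8
      rw [h3] at h7
      have := (smul_eq_zero.1 h7.symm).resolve_left (div_ne_zero h6 h2)
      rw [this, mul_zero]
  · have hαP : α * (σ⁻¹ • (α * α)) = α := by
      rw [mul_smul_comm, ← mul_assoc, hσ, smul_smul, inv_mul_cancel₀ h0, one_smul]
    have hPα : σ⁻¹ • (α * α) * α = α := by
      rw [smul_mul_assoc, hσ, smul_smul, inv_mul_cancel₀ h0, one_smul]
    have hPP : σ⁻¹ • (α * α) * (σ⁻¹ • (α * α)) = σ⁻¹ • (α * α) := by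
      rw [smul_mul_assoc, mul_assoc, hαP]
    refine ⟨_, D.semisimple_mem h0 hαP hPα hPP (by rw [smul_smul, mul_inv_cancel₀ h0, one_smul]) ht,
      fun l hl => ?_⟩
    have hs : α * α = (σ * (l / (t * t - 1))) • (1 : E) := by
      have h8 := congrArg (fun Z => (σ / (t * t - 1)) • Z) hl
      simp only [smul_smul] at h8
      have ht2 := sub_ne_zero.2 ht1
      rw [show σ / (t * t - 1) * ((t * t - 1) * σ⁻¹) = 1 by field_simp; rw [pow_two]; exact div_self ht2, one_smul] at h8
      rw [h8]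
      congr 1
      field_simp
    set m := σ * (l / (t * t - 1))
    have hm : m ≠ 0 := fun h => hne (by rw [hs, h, zero_smul])
    refine hnu ⟨⟨α, m⁻¹ • α, ?_, ?_⟩, rfl⟩
    · rw [mul_smul_comm, hs, smul_smul, inv_mul_cancel₀ hm, one_smul]
    · rw [smul_mul_assoc, hs, smul_smul, inv_mul_cancel₀ hm, one_smul]

end CornerData

end CfsgLib.TensorSympMax
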