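import Cfsg.Agent.Lib.TensorSympMax.Many.Preserve

/-!
Every transvection lies in a group with a non-zero contraction.
-/

set_option autoImplicit false
set_option linter.unusedSectionVars false
set_option linter.unusedSimpArgs false

namespace CfsgLib.TensorSympMax

open LinearMap Module

variable {F : Type*} [Field F] {W : Type*} [AddCommGroup W] [Module F W] [FiniteDimensional F W]
  {U : Type*} [AddCommGroup U] [Module F U] {V : Type*} [AddCommGroup V] [Module F V] [FiniteDimensional F V]
  {b : LinearMap.BilinForm F W}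

namespace TSpace

variable (hb : Form b) (T : TSpace b U V)

/-- The extension by the identity of a block matrix on the plane of a hyperbolic pair. -/
def ext (e e' : U) (X : Blk F W) : Module.End F V :=
  1 + (T.tp e ∘ₗ ((X 0 0 - 1) ∘ₗ (-T.slot e') + X 0 1 ∘ₗ T.slot e) +
    T.tp e' ∘ₗ (X 1 0 ∘ₗ (-T.slot e') + (X 1 1 - 1) ∘ₗ T.slot e))

theorem ext_apply (e e' : U) (X : Blk F W) (v : V) :
    T.ext e e' X v = v + T.tp e ((act X (-T.slot e' v, T.slot e v)).1 - (-T.slot e' v)) +
      T.tp e' ((act X (-T.slot e' v, T.slot e v)).2 - T.slot e v) := by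
  simp [ext, act]
  abel

include hb in
theorem slot_ext {e e' : U} (h : T.f e e' = 1) (X : Blk F W) (v : V) :
    (-T.slot e' (T.ext e e' X v), T.slot e (T.ext e e' X v)) = act X (-T.slot e' v, T.slot e v) := by
  have h' : T.f e' e = -1 := by rw [T.f_swap, h]
  rw [ext_apply]
  ext <;> simp [T.slot_tp hb, T.f_alt, h, h'] <;> abel

theorem ext_one (e e' : U) : T.ext e e' 1 = 1 := by
  refine LinearMap.ext fun v => ?_
  rw [ext_apply, act_one]
  simp

include hb in
theorem ext_mul {e e' : U} (h : T.f e e' = 1) (X Y : Blk F W) :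
    T.ext e e' (X * Y) = T.ext e e' X * T.ext e e' Y := by
  refine LinearMap.ext fun v => ?_
  rw [Module.End.mul_apply, ext_apply, ext_apply T e e' X, slot_ext hb T h, act_mul]
  have h1 := congrArg Prod.fst (slot_ext hb T h Y v)
  have h2 := congrArg Prod.snd (slot_ext hb T h Y v)
  simp only at h1 h2
  rw [h1, h2, ext_apply T e e' Y]
  simp only [map_sub, map_neg]
  abel

include hb in
theorem act_slot {e e' : U} (h : T.f e e' = 1) (x y : W) :
    (-T.slot e' (T.tp e x + T.tp e' y), T.slot e (T.tp e x + T.tp e' y)) = (x, y) := by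
  simp [T.slot_tp hb, T.f_alt, h, T.f_swap e e']

include hb in
theorem ext_pair {e e' : U} (h : T.f e e' = 1) (X : Blk F W) (x : W × W) :
    T.ext e e' X (T.tp e x.1 + T.tp e' x.2) = T.tp e (act X x).1 + T.tp e' (act X x).2 := by
  have h1 := act_slot hb T h x.1 x.2
  simp only [Prod.mk.injEq] at h1
  rw [ext_apply, h1.1, h1.2, map_sub, map_sub]
  abel

include hb in
theorem phi_pair {e e' : U} (h : T.f e e' = 1) (x y : W × W) :
    T.φ (T.tp e x.1 + T.tp e' x.2) (T.tp e y.1 + T.tp e' y.2) = phi b x y := by
  simp [T.φ_tp, T.f_alt, h, T.f_swap e e', phi]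
  ring

theorem phi_slot (e e' : U) (v : V) (x : W × W) :
    T.φ v (T.tp e x.1 + T.tp e' x.2) = -b x.1 (T.slot e v) + -b x.2 (T.slot e' v) := by
  rw [map_add, T.b_slot, T.b_slot, ← T.φ_swap, ← T.φ_swap]

end TSpace

/-- A vector outside the kernels of three non-zero linear maps. -/
theorem exists_ne_three [Fintype F] (hq : 5 ≤ Fintype.card F) {A B : Type*}
    [AddCommGroup A] [Module F A] [AddCommGroup B] [Module F B] {L₁ L₂ L₃ : A →ₗ[F] B} (h₁ : L₁ ≠ 0)
    (h₂ : L₂ ≠ 0) (h₃ : L₃ ≠ 0) : ∃ u, L₁ u ≠ 0 ∧ L₂ u ≠ 0 ∧ L₃ u ≠ 0 := by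
  classical
  have pick : ∀ {L : A →ₗ[F] B}, L ≠ 0 → ∃ u, L u ≠ 0 := fun {L} hL => by
    by_contra hcon
    push Not at hcon
    exact hL (LinearMap.ext hcon)
  have line : ∀ (L : A →ₗ[F] B) (u v : A), L u ≠ 0 → ∀ l l' : F, L (u + l • v) = 0 → L (u + l' • v) = 0 → l = l' := by
    intro L u v hu l l' h h'
    simp only [map_add, map_smul] at h h'
    by_contra hne
    have h4 : (l - l') • L v = 0 := by linear_combination (norm := module) h - h'
    rw [(smul_eq_zero.1 h4).resolve_left (sub_ne_zero.2 hne), smul_zero, add_zero] at h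
    exact hu h
  obtain ⟨u₁, hu₁⟩ := pick h₁
  obtain ⟨u₂, hu₂⟩ := pick h₂
  obtain ⟨u, hu, hu'⟩ : ∃ u, L₁ u ≠ 0 ∧ L₂ u ≠ 0 := by
    by_cases h : L₂ u₁ = 0
    · by_cases h' : L₁ u₂ = 0
      · exact ⟨u₁ + u₂, by simpa [h'] using hu₁, by simpa [h] using hu₂⟩
      · exact ⟨u₂, h', hu₂⟩
    · exact ⟨u₁, hu₁, h⟩
  obtain ⟨v, hv⟩ := pick h₃
  have card1 : ∀ (L : A →ₗ[F] B) (x y : A), L x ≠ 0 →
      (Finset.univ.filter fun l : F => L (x + l • y) = 0).card ≤ 1 := fun L x y hx =>
    Finset.card_le_one.2 fun l hl l' hl' => line L x y hx l l' (Finset.mem_filter.1 hl).2 (Finset.mem_filter.1 hl').2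
  have card3 : (Finset.univ.filter fun l : F => L₃ (u + l • v) = 0).card ≤ 1 := by
    refine Finset.card_le_one.2 fun l hl l' hl' => ?_
    have h := (Finset.mem_filter.1 hl).2
    have h' := (Finset.mem_filter.1 hl').2
    simp only [map_add, map_smul] at h h'
    have h4 : (l - l') • L₃ v = 0 := by linear_combination (norm := module) h - h'
    exact sub_eq_zero.1 ((smul_eq_zero.1 h4).resolve_right hv)
  obtain ⟨l, -, hl⟩ := Finset.exists_mem_notMem_of_card_lt_card
    (s := (Finset.univ.filter fun l : F => L₁ (u + l • v) = 0) ∪ (Finset.univ.filter fun l : F => L₂ (u + l • v) = 0) ∪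
      (Finset.univ.filter fun l : F => L₃ (u + l • v) = 0)) (t := Finset.univ) (by
      have := card1 L₁ u v hu
      have := card1 L₂ u v hu'
      refine lt_of_le_of_lt ((Finset.card_union_le _ _).trans (Nat.add_le_add_right (Finset.card_union_le _ _) _)) ?_
      rw [Finset.card_univ]
      omega)
  simp only [Finset.mem_union, Finset.mem_filter, Finset.mem_univ, true_and, not_or] at hl
  exact ⟨_, hl.1.1, hl.1.2, hl.2⟩

namespace MSetting

variable (hb : Form b) {T : TSpace b U V} {M : Set (Module.End F V)} (S : MSetting T M)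
include S hb

theorem plane_setting (hd : 3 ≤ finrank F W) {e e' : U} (h : T.f e e' = 1) :
    CSetting hb {X : Blk F W | T.ext e e' X ∈ M} where
  dim := hd
  one := by simp only [Set.mem_setOf_eq, T.ext_one]; exact S.one
  mul hX hY := by simp only [Set.mem_setOf_eq, T.ext_mul hb h]; exact S.mul hX hY
  sigma_mul := by
    intro X hX
    refine act_ext fun y => ?_
    rw [act_mul, act_one]
    set z := act (sigma hb X) (act X y) with hz
    have hp : ∀ u, phi b u z = phi b u y := fun u => by
      rw [hz, ← phi_sigma hb, ← T.phi_pair hb h, ← T.phi_pair hb h, ← T.ext_pair hb h, ← T.ext_pair hb h,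
        S.iso hX]
    refine Prod.ext (hb.ext_left fun t => ?_) (hb.ext_left fun t => ?_)
    · have := hp (0, t)
      simp [phi, hb.symm t] at this
      exact this
    · have := hp (t, 0)
      simp [phi, hb.symm t] at this
      exact this
  sigma_mem := by
    intro X hX
    obtain ⟨Y, hY, hYX⟩ := S.inv hX
    have hs : sigma hb X * X = 1 := by
      refine act_ext fun y => ?_
      rw [act_mul, act_one]
      set z := act (sigma hb X) (act X y) with hz
      have hp : ∀ u, phi b u z = phi b u y := fun u => by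
        rw [hz, ← phi_sigma hb, ← T.phi_pair hb h, ← T.phi_pair hb h, ← T.ext_pair hb h, ← T.ext_pair hb h,
          S.iso hX]
      refine Prod.ext (hb.ext_left fun t => ?_) (hb.ext_left fun t => ?_)
      · have := hp (0, t)
        simp [phi, hb.symm t] at this
        exact this
      · have := hp (t, 0)
        simp [phi, hb.symm t] at this
        exact this
    have hYe : T.ext e e' (sigma hb X) = Y := by
      calc T.ext e e' (sigma hb X) = T.ext e e' (sigma hb X) * (T.ext e e' X * Y) := by
            rw [mul_eq_one_comm.1 hYX, mul_one]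
        _ = T.ext e e' (sigma hb X * X) * Y := by rw [← mul_assoc, ← T.ext_mul hb h]
        _ = Y := by rw [hs, T.ext_one, one_mul]
    simpa [hYe] using hY
  upper c := by
    simp only [Set.mem_setOf_eq]
    convert S.tr e c using 1
    refine LinearMap.ext fun v => ?_
    simp [T.ext_apply, T.tU_apply, act]
  lower c := by
    simp only [Set.mem_setOf_eq]
    convert S.tr e' (-c) using 1
    refine LinearMap.ext fun v => ?_
    simp [T.ext_apply, T.tU_apply, act]
  conj w hw X hX := by
    simp only [Set.mem_setOf_eq]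
    convert S.mul (S.mul (S.refl_mem w hw) hX) (S.refl_mem w hw) using 1
    refine LinearMap.ext fun v => ?_
    have hs : ∀ u, T.slot u (T.dW w v) = refl b w (T.slot u v) := fun u => by
      rw [T.dW_apply, map_sub, map_smul, T.slot_tp hb, T.f_sl_eq, refl_apply, smul_smul]
    have hD : T.dW w (T.dW w v) = v := by
      rw [← Module.End.mul_apply, T.dW_mul_self hw, Module.End.one_apply]
    have h2 : ∀ z : W, refl b w (refl b w z) = z := fun z => by
      rw [← Module.End.mul_apply, refl_mul_self hw, Module.End.one_apply]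
    simp only [Module.End.mul_apply, T.ext_apply, hs, map_add, hD, T.dW_tp, map_sub, map_neg, h2, act_mul]
    simp [act_mul, act]

/-- Some pure vector is the centre of a transvection group. -/
theorem all_centres [Fintype F] (hq : 5 ≤ Fintype.card F) (hd : finrank F W = 3) (hc : S.HasContraction)
    (u : U) (w : W) : ∀ t, T.tvV (T.tp u w) t ∈ M := by
  obtain ⟨e, he, B, hB, hns⟩ := S.exists_root hb hq hd hc
  obtain ⟨e₁, he₁⟩ := T.f_nd e he
  set e' := (T.f e e₁)⁻¹ • e₁ with he'
  have h : T.f e e' = 1 := by simp [he', he₁]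
  set S₀ := S.plane_setting hb hd.ge h
  have hR : S₀.Root B := by
    show T.ext e e' (!![1, B; 0, 1] : Blk F W) ∈ M
    convert hB using 1
    refine LinearMap.ext fun v => ?_
    simp [T.ext_apply, T.cr_apply, act]
  obtain ⟨i, hi0, hii, hi⟩ := S₀.exists_centre (Or.inr hq) hR hns
  have hpure : ∀ x t, T.tvV (T.tp e x) t ∈ M := by
    intro x t
    have hx := S₀.all_centres hii hi0 hi (x, 0) t
    convert (show T.ext e e' (tv b (x, 0) t) ∈ M from hx) using 1
    refine LinearMap.ext fun v => ?_
    have e1 := T.phi_slot e e' v (x, 0)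
    simp only [map_zero, add_zero, LinearMap.zero_apply, neg_zero] at e1
    rw [T.ext_apply, act_tv hb, T.tvV_apply, e1]
    simp [phi, hb.symm x, smul_smul]
  intro t
  by_cases hu : u = 0
  · simpa [hu, TSpace.tvV] using S.one
  obtain ⟨g, hg, hgu⟩ := S.move hb he hu
  obtain ⟨g', hg', hgg⟩ := S.inv hg
  convert S.mul (S.mul hg (hpure w t)) hg' using 1
  refine LinearMap.ext fun v => ?_
  rw [Module.End.mul_apply, Module.End.mul_apply, T.tvV_apply, T.tvV_apply, S.adj_of_inv hg hgg, hgu, map_add,
    ← Module.End.mul_apply g g', mul_eq_one_comm.1 hgg, Module.End.one_apply, map_smul, hgu]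

omit hb in
theorem centre_step {x y : V} (hx : ∀ t, T.tvV x t ∈ M) (hy : ∀ t, T.tvV y t ∈ M) (h : T.φ x y ≠ 0) (a : F) :
    ∀ t, T.tvV (x + a • y) t ∈ M := by
  intro t
  set g := T.tvV y (a / T.φ x y) with hg
  obtain ⟨g', hg', hgg⟩ := S.inv (hy (a / T.φ x y))
  have hgx : g x = x + a • y := by rw [hg, T.tvV_apply, div_mul_cancel₀ _ h]
  convert S.mul (S.mul (hy (a / T.φ x y)) (hx t)) hg' using 1
  refine LinearMap.ext fun v => ?_
  rw [Module.End.mul_apply, Module.End.mul_apply, ← hg, T.tvV_apply (x + a • y), T.tvV_apply x,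
    S.adj_of_inv (hy (a / T.φ x y)) hgg, ← hg, hgx, map_add g, ← Module.End.mul_apply g g',
    mul_eq_one_comm.1 hgg, Module.End.one_apply, map_smul, hgx]

theorem all_transvections [Fintype F] (hq : 5 ≤ Fintype.card F) (hd : finrank F W = 3) (hc : S.HasContraction)
    (v : V) : ∀ t, T.tvV v t ∈ M := by
  have pure := S.all_centres hb hq hd hc
  let C : Submodule F V :=
    { carrier := {v | ∀ t, T.tvV v t ∈ M}
      zero_mem' := fun t => by simpa [TSpace.tvV] using S.one
      smul_mem' := fun a v hv t => by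
        convert hv (a * a * t) using 1
        refine LinearMap.ext fun x => ?_
        rw [T.tvV_apply, T.tvV_apply, map_smul, smul_smul, smul_eq_mul]
        congr 2
        ring
      add_mem' := fun {x y} hx hy => by
        by_cases h : T.φ x y = 0
        swap
        · simpa using S.centre_step hx hy h 1
        by_cases hx0 : x = 0
        · simpa [hx0] using hy
        by_cases hy0 : y = 0
        · simpa [hy0] using hx
        by_cases hxy : x + y = 0
        · intro t
          simpa [hxy, TSpace.tvV] using S.one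
        have nz : ∀ {z : V}, z ≠ 0 → (T.slot.flip z) ≠ 0 := fun {z} hz h0 => hz <| T.ext_tp fun u a => by
          rw [← T.b_slot, show T.slot u z = 0 from LinearMap.congr_fun h0 u, map_zero, map_zero]
        obtain ⟨u, h1, h2, h3⟩ := exists_ne_three hq (nz hx0) (nz hy0) (nz hxy)
        simp only [LinearMap.flip_apply] at h1 h2 h3
        have bnz : ∀ {z : W}, z ≠ 0 → b z ≠ 0 := fun {z} hz h0 => hz (hb.nondeg.1 z fun y => by rw [h0]; rfl)
        obtain ⟨a, a1, a2, a3⟩ := exists_ne_three hq (bnz h1) (bnz h2) (bnz h3)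
        set z := T.tp u a with hz
        have hza : ∀ v, T.φ v z = -b (T.slot u v) a := fun v => by
          rw [hb.symm, T.b_slot, ← T.φ_swap]
        have hxz : T.φ x z ≠ 0 := by rw [hza, neg_ne_zero]; exact a1
        have hyz : T.φ y z ≠ 0 := by rw [hza, neg_ne_zero]; exact a2
        have hxyz : T.φ x z + T.φ y z ≠ 0 := by
          rw [← LinearMap.add_apply, ← map_add, hza, neg_ne_zero]; exact a3
        have e1 := S.centre_step hx (pure u a) hxz 1
        have e2 := S.centre_step hy (pure u a) hyz (-1)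
        have e3 := S.centre_step e1 e2 (by
          simp only [one_smul, neg_smul, map_add, map_neg, LinearMap.add_apply, h, ← hz, T.φ_alt z, T.φ_swap y z]
          intro h0
          exact hxyz (by linear_combination -h0)) 1
        show ∀ t, T.tvV (x + y) t ∈ M
        rwa [show x + y = x + (1 : F) • z + (1 : F) • (y + (-1 : F) • z) by module] }
  have hv : v ∈ C := by
    rw [T.total C fun u x => pure u x]
    exact Submodule.mem_top
  exact hv

/-- The dichotomy. -/
theorem dichotomy [Fintype F] [Nontrivial U] (hq : 5 ≤ Fintype.card F) (hd : finrank F W = 3) :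
    (∀ X ∈ M, ∃ (A : Module.End F U) (B : Module.End F W), Function.Injective A ∧ Function.Injective B ∧
      ∀ u x, X (T.tp u x) = T.tp (A u) (B x)) ∨ ∀ v t, T.tvV v t ∈ M := by
  by_cases hc : S.HasContraction
  · exact Or.inr (S.all_transvections hb hq hd hc)
  · exact Or.inl fun X hX => S.preserved hb hd hc hX inferInstance

end MSetting

end CfsgLib.TensorSympMax
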