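import Cfsg.Agent.Lib.TensorSympMax.Many.Space

/-!
If every contraction vanishes, the decomposition is preserved.
-/

set_option autoImplicit false
set_option linter.unusedSectionVars false
set_option linter.unusedSimpArgs false

namespace CfsgLib.TensorSympMax.MSetting

open LinearMap Module

variable {F : Type*} [Field F] {W : Type*} [AddCommGroup W] [Module F W] [FiniteDimensional F W]
  {U : Type*} [AddCommGroup U] [Module F U] {V : Type*} [AddCommGroup V] [Module F V] [FiniteDimensional F V]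
  {b : LinearMap.BilinForm F W} (hb : Form b) {T : TSpace b U V} {M : Set (Module.End F V)}
  (S : MSetting T M)
include S hb

theorem col_scalar (hd : 3 ≤ finrank F W) (hno : ¬ S.HasContraction) {X : Module.End F V} (hX : X ∈ M)
    {e u : U} (he : e ≠ 0) :
    ∃ q : F, (T.slot u ∘ₗ X ∘ₗ T.tp e) * adj hb (T.slot u ∘ₗ X ∘ₗ T.tp e) = q • 1 := by
  by_cases hu : u = 0
  · exact ⟨0, by subst hu; ext x; simp⟩
  set Y : Module.End F W := T.slot u ∘ₗ X ∘ₗ T.tp e with hY
  simp only [HasContraction, not_exists, not_and, not_not] at hno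
  refine scalar_of_eigen hb hd _ fun w hw => ?_
  set N := Y * adj hb Y with hN
  obtain ⟨X', hX', hXX⟩ := S.inv hX
  obtain ⟨h, hh, heu⟩ := S.move hb he hu
  have hk : ∀ x, (X * T.tU e 1 * X' * h) (T.tp e x) = T.tp u x + X (T.tp e (-(adj hb Y x))) := by
    intro x
    rw [Module.End.mul_apply, Module.End.mul_apply, Module.End.mul_apply, heu, T.tU_apply, one_smul, map_add,
      ← Module.End.mul_apply X X', mul_eq_one_comm.1 hXX, Module.End.one_apply]
    congr 3
    refine hb.ext_left fun z => ?_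
    rw [hb.symm, T.b_slot, map_neg, LinearMap.neg_apply, adj_left, T.φ_swap, S.adj_of_inv hX hXX, neg_inj]
    exact (T.b_slot u x (X (T.tp e z))).symm
  have key : ∀ x x', b w x * b w (N x') = b w x' * b w (N x) := by
    intro x x'
    have h1 := hno _ (S.mul (S.mul (S.mul hX (S.tr e 1)) hX') hh) e w hw x x'
    simp only [hk] at h1
    simp only [map_add, map_smul, T.sl_tp, LinearMap.add_apply, LinearMap.smul_apply, smul_eq_mul, T.f_alt,
      hno X hX e w hw, mul_zero, zero_add, add_zero] at h1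
    rw [T.f_swap u (T.sl w (X (T.tp e _))), T.f_sl_eq, T.f_sl_eq,
      show T.slot u (X (T.tp e (-(adj hb Y x')))) = -(N x') by simp [hN, hY],
      show T.slot u (X (T.tp e (-(adj hb Y x)))) = -(N x) by simp [hN, hY]] at h1
    simp only [map_neg] at h1
    linear_combination -h1
  refine ⟨b w (N w) / b w w, hb.ext_left fun z => ?_⟩
  have hsa : ∀ x y, b (N x) y = b x (N y) := fun x y => by
    rw [← adj_left hb N, hN, adj_mul, adj_adj]
  rw [hsa, map_smul, LinearMap.smul_apply, smul_eq_mul]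
  field_simp
  linear_combination key w z

theorem column (hd : finrank F W = 3) (hno : ¬ S.HasContraction) {X : Module.End F V} (hX : X ∈ M)
    {e : U} (he : e ≠ 0) :
    ∃ (a : U) (B : Module.End F W), ∀ x, X (T.tp e x) = T.tp a (B x) := by
  have h2 := hb.two
  choose q hq using fun u => S.col_scalar hb hd.ge hno hX (u := u) he
  set Y : U → Module.End F W := fun u => T.slot u ∘ₗ X ∘ₗ T.tp e with hY
  have hYadd : ∀ u v, Y (u + v) = Y u + Y v := fun u v => by ext x; simp [hY]
  replace hq : ∀ u, Y u * adj hb (Y u) = q u • 1 := hq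
  have polar : ∀ u v, Y u * adj hb (Y v) + Y v * adj hb (Y u) = (q (u + v) - q u - q v) • 1 := fun u v => by
    have h := hq (u + v)
    rw [hYadd, adj_add, add_mul, mul_add, mul_add, hq, hq] at h
    linear_combination (norm := module) h
  have inj : ∀ {x}, (∀ u, Y u x = 0) → x = 0 := fun {x} h => T.tp_injective hb he <| by
    have h1 : X (T.tp e x) = 0 := T.ext_tp fun u z => by
      rw [← T.b_slot, ← T.b_slot, map_zero, map_zero]
      exact (congrArg (b z) (h u)).trans (map_zero _)
    obtain ⟨X', -, hXX⟩ := S.inv hX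
    rw [← Module.End.one_apply (R := F) (T.tp e x), ← hXX, Module.End.mul_apply, h1, map_zero]
  by_cases hex : ∃ u₀, q u₀ ≠ 0
  · obtain ⟨u₀, hu₀⟩ := hex
    set B := Y u₀ with hB
    have hBB : adj hb B * B = q u₀ • 1 := by
      have h1 : ((q u₀)⁻¹ • B) * adj hb B = 1 := by
        rw [smul_mul_assoc, hq, smul_smul, inv_mul_cancel₀ hu₀, one_smul]
      have h3 := congrArg (fun Z => q u₀ • Z) (mul_eq_one_comm.1 h1)
      simpa [mul_smul_comm, smul_smul, mul_inv_cancel₀ hu₀] using h3
    have prop : ∀ v, ∃ l : F, Y v = l • B := by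
      intro v
      set c := (q (u₀ + v) - q u₀ - q v) / 2 with hc
      set Z := Y v * adj hb B with hZ
      have hZs : Z + adj hb Z = (2 * c) • 1 := by
        rw [hZ, adj_mul, adj_adj, add_comm, polar u₀ v, hc]
        congr 1
        field_simp
      have hZZ : Z * adj hb Z = (q u₀ * q v) • 1 := by
        rw [hZ, adj_mul, adj_adj, mul_assoc, ← mul_assoc (adj hb B), hBB, smul_mul_assoc, one_mul, mul_smul_comm,
          hq v, smul_smul]
      set N := Z - c • 1 with hN
      have hNs : adj hb N = -N := by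
        rw [hN, adj_sub, adj_smul, adj_one]
        linear_combination (norm := module) hZs
      have hNN : N * N = (c * c - q u₀ * q v) • 1 := by
        have e1 : adj hb Z = c • 1 - N := by rw [hN]; linear_combination (norm := module) hZs
        have e2 : Z = c • 1 + N := by rw [hN]; module
        rw [e1, e2] at hZZ
        simp only [add_mul, mul_sub, smul_mul_assoc, mul_smul_comm, one_mul, mul_one, smul_smul] at hZZ
        linear_combination (norm := module) -hZZ
      have hN0 : N = 0 := by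
        by_contra h0
        obtain ⟨h1, -, x, hx, hx'⟩ :=
          skew_three hb hd (fun x y => by rw [← adj_right hb, hNs]; simp) h0
        have h := LinearMap.congr_fun hNN x
        rw [Module.End.mul_apply, hx', map_zero, LinearMap.smul_apply, Module.End.one_apply, eq_comm,
          smul_eq_zero] at h
        exact h1 (by rw [hNN, h.resolve_right hx, zero_smul])
      refine ⟨c / q u₀, ?_⟩
      have h3 := congrArg (fun A => (q u₀)⁻¹ • (A * B)) (show Z = c • (1 : Module.End F W) from sub_eq_zero.1 hN0)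
      rw [hZ] at h3
      simpa [mul_assoc, hBB, mul_smul_comm, smul_smul, inv_mul_cancel₀ hu₀, div_eq_inv_mul] using h3
    obtain ⟨w, x₁, hwx⟩ : ∃ w x₁, b w (B x₁) = 1 := by
      obtain ⟨x₁, hx₁⟩ : ∃ x₁, B x₁ ≠ 0 := by
        by_contra h
        push Not at h
        exact hu₀ (by
          have h1 := hq u₀
          rw [← hB, show B = 0 from LinearMap.ext h, zero_mul, eq_comm, smul_eq_zero] at h1
          refine h1.resolve_right fun h0 => ?_
          haveI : Nontrivial W := Module.finrank_pos_iff.1 (by omega : 0 < finrank F W)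
          obtain ⟨z, hz⟩ := exists_ne (0 : W)
          exact hz (LinearMap.congr_fun h0 z))
      obtain ⟨w, hw⟩ : ∃ w, b w (B x₁) ≠ 0 := by
        by_contra h
        push Not at h
        exact hx₁ (hb.nondeg.1 _ fun y => by rw [hb.symm]; exact h y)
      exact ⟨(b w (B x₁))⁻¹ • w, x₁, by simp [hw]⟩
    refine ⟨T.sl w (X (T.tp e x₁)), B, fun x => T.ext_tp fun v z => ?_⟩
    obtain ⟨l, hl⟩ := prop v
    have e1 : T.f v (T.sl w (X (T.tp e x₁))) = l := by
      rw [T.f_sl_eq]
      show b w (Y v x₁) = l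
      rw [hl, LinearMap.smul_apply, map_smul, hwx, smul_eq_mul, mul_one]
    rw [T.φ_tp, e1, ← T.b_slot]
    show b z (Y v x) = _
    rw [hl, LinearMap.smul_apply, map_smul, smul_eq_mul]
  · exfalso
    push Not at hex
    have hz : ∀ u, Y u * adj hb (Y u) = 0 := fun u => by rw [hq, hex, zero_smul]
    have line : ∀ u, ∃ i, ∀ x, ∃ l : F, adj hb (Y u) x = l • i := fun u => by
      obtain ⟨i, hi⟩ := exists_span_of_isotropic hb hd (LinearMap.range (adj hb (Y u))) (by
        rintro _ ⟨x, rfl⟩ _ ⟨y, rfl⟩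
        rw [adj_left, ← Module.End.mul_apply, hz, LinearMap.zero_apply, map_zero])
      exact ⟨i, fun x => hi _ ⟨x, rfl⟩⟩
    have cross : ∀ u v, Y u * adj hb (Y v) = 0 := fun u v => by
      refine skew_line_eq_zero hb (N := Y u * adj hb (Y v)) (w := Y u (Classical.choose (line v))) (fun x y => ?_)
        fun x => ?_
      · rw [← adj_right hb, adj_mul, adj_adj,
          show Y v * adj hb (Y u) = -(Y u * adj hb (Y v)) by
            rw [eq_neg_iff_add_eq_zero, add_comm, polar, hex, hex, hex]; simp, LinearMap.neg_apply, map_neg]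
      · obtain ⟨l, hl⟩ := Classical.choose_spec (line v) x
        exact ⟨l, by rw [Module.End.mul_apply, hl, map_smul]⟩
    set J : Submodule F W := ⨆ u, LinearMap.range (adj hb (Y u)) with hJ
    have hJiso : ∀ x ∈ J, ∀ y ∈ J, b x y = 0 := fun x hx y hy => by
      refine Submodule.iSup_induction _ (motive := fun x => b x y = 0) hx ?_ (by simp)
        (fun a c ha hc => by rw [map_add, LinearMap.add_apply, ha, hc, add_zero])
      rintro u _ ⟨x', rfl⟩
      refine Submodule.iSup_induction _ (motive := fun y => b (adj hb (Y u) x') y = 0) hy ?_ (by simp)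
        (fun a c ha hc => by rw [map_add, ha, hc, add_zero])
      rintro v _ ⟨y', rfl⟩
      rw [adj_left, ← Module.End.mul_apply, cross, LinearMap.zero_apply, map_zero]
    obtain ⟨i, hi⟩ := exists_span_of_isotropic hb hd J hJiso
    obtain ⟨x₀, hx0, hxi, -⟩ := exists_perp_two (b := b) i i hd.ge
    refine hx0 (inj fun u => hb.ext_left fun z => ?_)
    obtain ⟨l, hl⟩ := hi (adj hb (Y u) z) (Submodule.mem_iSup_of_mem u ⟨z, rfl⟩)
    rw [← adj_right hb, hl, map_smul, hb.symm x₀, hxi, smul_zero, map_zero, LinearMap.zero_apply]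

theorem preserved (hd : finrank F W = 3) (hno : ¬ S.HasContraction) {X : Module.End F V} (hX : X ∈ M)
    (hU : Nontrivial U) :
    ∃ (A : Module.End F U) (B : Module.End F W), Function.Injective A ∧ Function.Injective B ∧
      ∀ u x, X (T.tp u x) = T.tp (A u) (B x) := by
  obtain ⟨e₀, he₀⟩ := exists_ne (0 : U)
  obtain ⟨X', -, hXX⟩ := S.inv hX
  have hXinj : ∀ {v}, X v = 0 → v = 0 := fun {v} hv => by
    rw [← Module.End.one_apply (R := F) v, ← hXX, Module.End.mul_apply, hv, map_zero]
  obtain ⟨a₀, B, hB⟩ := S.column hb hd hno hX he₀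
  have hBinj : Function.Injective B := by
    rw [← LinearMap.ker_eq_bot, LinearMap.ker_eq_bot']
    intro x hx
    exact T.tp_injective hb he₀ (hXinj (by rw [hB, hx, map_zero]))
  obtain ⟨x₁, hx₁⟩ : ∃ x : W, x ≠ 0 := by
    haveI : Nontrivial W := Module.finrank_pos_iff.1 (by omega : 0 < finrank F W)
    exact exists_ne 0
  have ha₀ : a₀ ≠ 0 := fun h => hx₁ (T.tp_injective hb he₀ (hXinj (by rw [hB, h]; simp)))
  obtain ⟨w, hw⟩ : ∃ w, b w (B x₁) = 1 := by
    obtain ⟨w, hw⟩ : ∃ w, b w (B x₁) ≠ 0 := by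
      by_contra h
      push Not at h
      exact hx₁ (hBinj (by rw [map_zero]; exact hb.nondeg.1 _ fun y => by rw [hb.symm]; exact h y))
    exact ⟨(b w (B x₁))⁻¹ • w, by simp [hw]⟩
  let A : Module.End F U := T.sl w ∘ₗ X ∘ₗ T.tp.flip x₁
  have main : ∀ e, ∃ a, ∀ x, X (T.tp e x) = T.tp a (B x) := by
    intro e
    by_cases he : e = 0
    · exact ⟨0, fun x => by simp [he]⟩
    obtain ⟨a₁, B₁, hB₁⟩ := S.column hb hd hno hX he
    by_cases hes : e + e₀ = 0
    · refine ⟨-a₀, fun x => ?_⟩
      rw [eq_neg_of_add_eq_zero_left hes, map_neg, map_neg, LinearMap.neg_apply, map_neg, LinearMap.neg_apply, hB]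
    obtain ⟨a₂, B₂, hB₂⟩ := S.column hb hd hno hX hes
    have rel : ∀ z x, T.f z a₁ • B₁ x + T.f z a₀ • B x = T.f z a₂ • B₂ x := fun z x => by
      have h := congrArg (T.slot z) (hB₂ x)
      rwa [map_add T.tp, LinearMap.add_apply, map_add, hB₁, hB, map_add, T.slot_tp hb, T.slot_tp hb,
        T.slot_tp hb] at h
    by_cases hdep : ∃ l : F, a₁ = l • a₀
    · obtain ⟨l, rfl⟩ := hdep
      obtain ⟨C, hC⟩ := LinearMap.exists_leftInverse_of_injective B (LinearMap.ker_eq_bot.2 hBinj)
      have hC' : ∀ y, B (C y) = y := LinearMap.congr_fun (mul_eq_one_comm.1 (show C * B = 1 from hC))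
      have hsame : ∀ x, T.tp e x = T.tp e₀ (l • C (B₁ x)) := fun x => by
        refine sub_eq_zero.1 (hXinj ?_)
        rw [map_sub, hB₁, hB, map_smul B, hC']; simp
      by_cases hpar : ∃ μ : F, e = μ • e₀
      · obtain ⟨μ, rfl⟩ := hpar
        exact ⟨μ • a₀, fun x => by simp [hB]⟩
      · exfalso
        obtain ⟨z₁, hz₁⟩ := T.f_nd e₀ he₀
        set z := (T.f e₀ z₁)⁻¹ • z₁ with hzdef
        have hz0 : T.f e₀ z = 1 := by simp [hzdef, hz₁]
        obtain ⟨y, hy⟩ := T.f_nd (e - T.f e z • e₀) (sub_ne_zero.2 fun h => hpar ⟨_, h⟩)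
        set y' := y - T.f e₀ y • z with hy'
        have h1 : T.f y' e₀ = 0 := by rw [T.f_swap, hy']; simp [hz0]
        have h2 : T.f y' e ≠ 0 := by
          rw [T.f_swap, hy', neg_ne_zero]
          simp only [map_sub, map_smul, LinearMap.sub_apply, LinearMap.smul_apply, smul_eq_mul] at hy ⊢
          exact fun h => hy (by linear_combination h)
        have h3 := congrArg (T.slot y') (hsame x₁)
        rw [T.slot_tp hb, T.slot_tp hb, h1, zero_smul, smul_eq_zero] at h3
        exact h3.elim h2 hx₁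
    · obtain ⟨z, hz1, hz0⟩ : ∃ z, T.f z a₁ ≠ 0 ∧ T.f z a₀ = 0 := by
        obtain ⟨z₁, hz₁⟩ := T.f_nd a₀ ha₀
        set z := (T.f z₁ a₀)⁻¹ • z₁ with hzdef
        have hz₁' : T.f z₁ a₀ ≠ 0 := by rw [T.f_swap]; simpa using hz₁
        have hz0 : T.f z a₀ = 1 := by simp [hzdef, hz₁']
        obtain ⟨y, hy⟩ := T.f_nd (a₁ - T.f z a₁ • a₀) (sub_ne_zero.2 fun h => hdep ⟨_, h⟩)
        refine ⟨y - T.f y a₀ • z, fun h => hy ?_, by simp [hz0]⟩
        simp only [map_sub, map_smul, LinearMap.sub_apply, LinearMap.smul_apply, smul_eq_mul] at h ⊢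
        linear_combination -h + T.f_swap y a₁ - T.f z a₁ * T.f_swap y a₀
      obtain ⟨z', hz1', hz0'⟩ : ∃ z, T.f z a₁ = 0 ∧ T.f z a₀ ≠ 0 := by
        obtain ⟨y, hy⟩ := T.f_nd a₀ ha₀
        refine ⟨y - (T.f y a₁ / T.f z a₁) • z, by simp [hz1], ?_⟩
        simpa [hz0, T.f_swap a₀ y] using hy
      have hl : T.f z' a₂ ≠ 0 := fun h => by
        have h1 := rel z' x₁
        rw [hz1', h, zero_smul, zero_smul, zero_add, smul_eq_zero] at h1
        exact hx₁ (hBinj (by rw [h1.resolve_left hz0', map_zero]))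
      refine ⟨((T.f z a₁)⁻¹ * T.f z a₂ * (T.f z' a₂)⁻¹ * T.f z' a₀) • a₁, fun x => ?_⟩
      have e1 := rel z x
      have e2 := rel z' x
      rw [hz0, zero_smul, add_zero] at e1
      rw [hz1', zero_smul, zero_add] at e2
      have hB2 : B₂ x = ((T.f z' a₂)⁻¹ * T.f z' a₀) • B x := by
        rw [← smul_smul, e2, smul_smul, inv_mul_cancel₀ hl, one_smul]
      have hB1 : B₁ x = ((T.f z a₁)⁻¹ * T.f z a₂ * (T.f z' a₂)⁻¹ * T.f z' a₀) • B x := by
        rw [mul_assoc, ← smul_smul, ← hB2, ← smul_smul, ← e1, smul_smul, inv_mul_cancel₀ hz1, one_smul]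
      rw [hB₁, hB1, map_smul, map_smul, LinearMap.smul_apply]
  have hA : ∀ e x, X (T.tp e x) = T.tp (A e) (B x) := fun e x => by
    obtain ⟨a, ha⟩ := main e
    have e1 : A e = a := by simp [A, ha, T.sl_tp, hw]
    rw [e1, ha]
  refine ⟨A, B, ?_, hBinj, hA⟩
  rw [← LinearMap.ker_eq_bot, LinearMap.ker_eq_bot']
  intro u hu
  by_contra hu0
  exact hx₁ (T.tp_injective hb hu0 (hXinj (by rw [hA, hu]; simp)))

end CfsgLib.TensorSympMax.MSetting
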