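import Cfsg.Agent.Lib.TensorSympMax.Siegel

/-!
Skew endomorphisms and totally isotropic subspaces in dimension three.
-/

set_option autoImplicit false
set_option linter.unusedSectionVars false

namespace CfsgLib.TensorSympMax

open LinearMap Module

variable {F : Type*} [Field F] {W : Type*} [AddCommGroup W] [Module F W] [FiniteDimensional F W]
  {b : LinearMap.BilinForm F W}

theorem isotropic_finrank_le_one (hb : Form b) (hd : finrank F W = 3) (J : Submodule F W)
    (hJ : ∀ x ∈ J, ∀ y ∈ J, b x y = 0) : finrank F J ≤ 1 := by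
  have hle : J ≤ LinearMap.BilinForm.orthogonal b J := fun x hx y hy => hJ y hy x hx
  have h := Submodule.finrank_mono hle
  rw [LinearMap.BilinForm.finrank_orthogonal hb.nondeg, hd] at h
  omega

theorem exists_span_of_isotropic (hb : Form b) (hd : finrank F W = 3) (J : Submodule F W)
    (hJ : ∀ x ∈ J, ∀ y ∈ J, b x y = 0) : ∃ i, ∀ x ∈ J, ∃ l : F, x = l • i := by
  obtain ⟨i, hi⟩ := finrank_le_one_iff.1 (isotropic_finrank_le_one hb hd J hJ)
  refine ⟨i, fun x hx => ?_⟩
  obtain ⟨l, hl⟩ := hi ⟨x, hx⟩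
  exact ⟨l, (congrArg Subtype.val hl).symm⟩

/-- A skew endomorphism with image in a line is zero. -/
theorem skew_line_eq_zero (hb : Form b) {N : Module.End F W} (hN : ∀ x y, b (N x) y = -b x (N y))
    {w : W} (hw : ∀ x, ∃ l : F, N x = l • w) : N = 0 := by
  refine LinearMap.ext fun x₀ => ?_
  rw [LinearMap.zero_apply]
  by_contra h0
  obtain ⟨l₀, hl₀⟩ := hw x₀
  have hl : l₀ ≠ 0 := fun h => h0 (by rw [hl₀, h, zero_smul])
  have hself : ∀ y, b (N y) y = 0 := fun y => by
    have h := hN y y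
    rw [hb.symm y (N y)] at h
    exact (mul_eq_zero.1 (show (2 : F) * b (N y) y = 0 by linear_combination h)).resolve_left hb.two
  have hwx : b w x₀ = 0 := by simpa [hl₀, hl] using hself x₀
  refine h0 ?_
  rw [hl₀, show w = 0 from hb.nondeg.1 w fun y => ?_, smul_zero]
  obtain ⟨l, hly⟩ := hw y
  rcases eq_or_ne l 0 with rfl | hl'
  · have h := hself (x₀ + y)
    rw [map_add N, hly, zero_smul, add_zero, hl₀] at h
    simpa [hwx, hl] using h
  · simpa [hly, hl'] using hself y

/-- A non-zero skew endomorphism in dimension three. -/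
theorem skew_three (hb : Form b) (hd : finrank F W = 3) {N : Module.End F W}
    (hN : ∀ x y, b (N x) y = -b x (N y)) (h0 : N ≠ 0) :
    N * N ≠ 0 ∧ (∃ σ : F, N * N * N = σ • N) ∧ ∃ x, x ≠ 0 ∧ N x = 0 := by
  haveI : Invertible (2 : F) := invertibleOfNonzero hb.two
  obtain ⟨e₀, he₀⟩ := LinearMap.BilinForm.exists_orthogonal_basis (B := b) ⟨hb.symm⟩
  set e := e₀.reindex (finCongr hd) with he
  have hq : ∀ i, b (e i) (e i) ≠ 0 := fun i => by
    rw [he, Basis.reindex_apply]
    exact LinearMap.BilinForm.iIsOrtho.not_isOrtho_basis_self_of_nondegenerate he₀ hb.nondeg _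
  have ho : ∀ i j, i ≠ j → b (e i) (e j) = 0 := fun i j hij => by
    rw [he, Basis.reindex_apply, Basis.reindex_apply]
    exact he₀ fun h => hij ((finCongr hd).symm.injective h)
  set d : Fin 3 → F := fun i => b (e i) (e i) with hd'
  have expand : ∀ x, x = ∑ j, (b (e j) x / d j) • e j := fun x => by
    refine hb.ext_left fun y => ?_
    suffices h : b x = b (∑ j, (b (e j) x / d j) • e j) from LinearMap.congr_fun h y
    refine e.ext fun i => ?_
    fin_cases i <;> simp [Fin.sum_univ_three, ho, hd', hq, hb.symm x]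
  have hd0 : ∀ i, d i ≠ 0 := hq
  set a := b (e 0) (N (e 1)) with ha
  set c := b (e 0) (N (e 2)) with hc
  set g := b (e 1) (N (e 2)) with hg
  have hsk : ∀ i j, b (e i) (N (e j)) = -b (e j) (N (e i)) := fun i j => by rw [hb.symm, hN, hb.symm]
  have hdiag : ∀ i, b (e i) (N (e i)) = 0 := fun i =>
    (mul_eq_zero.1 (show (2 : F) * b (e i) (N (e i)) = 0 by linear_combination hsk i i)).resolve_left hb.two
  have n0 : N (e 0) = (-a / d 1) • e 1 + (-c / d 2) • e 2 := by
    rw [expand (N (e 0)), Fin.sum_univ_three, hdiag 0, hsk 1 0, hsk 2 0]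
    simp [← ha, ← hc]
  have n1 : N (e 1) = (a / d 0) • e 0 + (-g / d 2) • e 2 := by
    rw [expand (N (e 1)), Fin.sum_univ_three, hdiag 1, hsk 2 1]
    simp [← ha, ← hg]
  have n2 : N (e 2) = (c / d 0) • e 0 + (g / d 1) • e 1 := by
    rw [expand (N (e 2)), Fin.sum_univ_three, hdiag 2]
    simp [← hc, ← hg]
  refine ⟨fun h2 => h0 ?_, ⟨-(a * a / (d 0 * d 1) + c * c / (d 0 * d 2) + g * g / (d 1 * d 2)),
    e.ext fun i => ?_⟩, ?_⟩
  · have hJ : ∀ x ∈ LinearMap.range N, ∀ y ∈ LinearMap.range N, b x y = 0 := by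
      rintro _ ⟨x, rfl⟩ _ ⟨y, rfl⟩
      rw [hN, ← Module.End.mul_apply, h2]
      simp
    obtain ⟨w, hw⟩ := exists_span_of_isotropic hb hd _ hJ
    exact skew_line_eq_zero hb hN fun x => hw _ ⟨x, rfl⟩
  · fin_cases i <;> simp [Module.End.mul_apply, n0, n1, n2] <;> match_scalars <;> field_simp [hd0] <;> ring
  · by_cases hz : a = 0 ∧ c = 0 ∧ g = 0
    · exfalso
      exact h0 (e.ext fun i => by fin_cases i <;> simp [n0, n1, n2, hz])
    refine ⟨g • e 0 + (-c) • e 1 + a • e 2, fun hx => hz ?_, ?_⟩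
    · have h1 := congrArg (fun z => b (e 0) z) hx
      have h2 := congrArg (fun z => b (e 1) z) hx
      have h3 := congrArg (fun z => b (e 2) z) hx
      simp [ho, hq, hd'] at h1 h2 h3
      exact ⟨h3, h2, h1⟩
    · simp [n0, n1, n2]
      match_scalars <;> field_simp [hd0] <;> ring

end CfsgLib.TensorSympMax
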