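import Cfsg.Agent.Lib.TensorSympMax.Many.Skew
import Cfsg.Agent.Lib.TensorSympMax.Many.Corner

/-!
A symplectic space as the tensor product of a symplectic space and an orthogonal space, and groups of
isometries containing the reflections and transvections of the factors.
-/

set_option autoImplicit false
set_option linter.unusedSectionVars false
set_option linter.unusedSimpArgs false

namespace CfsgLib.TensorSympMax

open LinearMap Module

variable {F : Type*} [Field F] {W : Type*} [AddCommGroup W] [Module F W] [FiniteDimensional F W]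
  {U : Type*} [AddCommGroup U] [Module F U] {V : Type*} [AddCommGroup V] [Module F V] [FiniteDimensional F V]

/-- A tensor decomposition. -/
structure TSpace (b : LinearMap.BilinForm F W) (U V : Type*) [AddCommGroup U] [Module F U] [AddCommGroup V]
    [Module F V] where
  f : LinearMap.BilinForm F U
  φ : LinearMap.BilinForm F V
  tp : U →ₗ[F] W →ₗ[F] V
  sl : W →ₗ[F] V →ₗ[F] U
  slot : U →ₗ[F] V →ₗ[F] W
  f_alt : ∀ u, f u u = 0
  f_nd : ∀ u, u ≠ 0 → ∃ u', f u u' ≠ 0
  φ_alt : ∀ v, φ v v = 0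
  φ_nd : ∀ v, (∀ v', φ v v' = 0) → v = 0
  f_sl : ∀ u w v, f u (sl w v) = φ (tp u w) v
  b_slot : ∀ u w v, b w (slot u v) = φ (tp u w) v
  φ_tp : ∀ u x u' y, φ (tp u x) (tp u' y) = f u u' * b x y
  total : ∀ S : Submodule F V, (∀ u x, tp u x ∈ S) → S = ⊤

namespace TSpace

variable {b : LinearMap.BilinForm F W} (hb : Form b) (T : TSpace b U V)

theorem f_swap (u u' : U) : T.f u' u = -T.f u u' := by
  have h := T.f_alt (u + u')
  simp [T.f_alt] at h
  linear_combination h

theorem φ_swap (v v' : V) : T.φ v' v = -T.φ v v' := by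
  have h := T.φ_alt (v + v')
  simp [T.φ_alt] at h
  linear_combination h

theorem φ_slice (v : V) (u : U) (w : W) : T.φ v (T.tp u w) = T.f (T.sl w v) u := by
  rw [φ_swap, ← T.f_sl, ← T.f_swap]

theorem f_ext {u u' : U} (h : ∀ z, T.f z u = T.f z u') : u = u' := by
  by_contra hne
  obtain ⟨z, hz⟩ := T.f_nd (u - u') (sub_ne_zero.2 hne)
  refine hz ?_
  rw [f_swap, map_sub, h z, sub_self, neg_zero]

theorem ext_tp {v v' : V} (h : ∀ u z, T.φ (T.tp u z) v = T.φ (T.tp u z) v') : v = v' := by
  refine sub_eq_zero.1 (T.φ_nd _ fun y => ?_)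
  have h' := T.total (LinearMap.ker (T.φ (v - v'))) fun u z => by
    rw [LinearMap.mem_ker, φ_swap, map_sub, h, sub_self, neg_zero]
  have hy : y ∈ LinearMap.ker (T.φ (v - v')) := by rw [h']; exact Submodule.mem_top
  exact hy

theorem end_ext {X Y : Module.End F V} (h : ∀ u x, X (T.tp u x) = Y (T.tp u x)) : X = Y := by
  refine LinearMap.ext fun v => ?_
  have hv : v ∈ LinearMap.eqLocus X Y := by
    rw [T.total (LinearMap.eqLocus X Y) fun u x => h u x]
    exact Submodule.mem_top
  exact hv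

include hb in
theorem slot_tp (u u' : U) (x : W) : T.slot u (T.tp u' x) = T.f u u' • x := by
  refine hb.ext_left fun w => ?_
  rw [hb.symm, T.b_slot, T.φ_tp, map_smul, LinearMap.smul_apply, smul_eq_mul, hb.symm]

theorem sl_tp (w : W) (u : U) (x : W) : T.sl w (T.tp u x) = b w x • u := by
  refine T.f_ext fun z => ?_
  rw [T.f_sl, T.φ_tp, map_smul, smul_eq_mul, mul_comm]

theorem f_sl_eq (u : U) (w : W) (v : V) : T.f u (T.sl w v) = b w (T.slot u v) := by rw [T.f_sl, T.b_slot]

include hb in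
theorem tp_injective {e : U} (he : e ≠ 0) {x : W} (h : T.tp e x = 0) : x = 0 := by
  obtain ⟨z, hz⟩ := T.f_nd e he
  have h1 := congrArg (T.slot z) h
  rw [T.slot_tp hb, map_zero, smul_eq_zero] at h1
  exact h1.resolve_left (by rw [T.f_swap e z, neg_eq_zero]; exact hz)

/-- The corner of a line of the first factor. -/
def cr (u : U) : Module.End F W →ₗ[F] Module.End F V where
  toFun A := T.tp u ∘ₗ A ∘ₗ T.slot u
  map_add' A B := by ext v; simp
  map_smul' c A := by ext v; simp

theorem cr_apply (u : U) (A : Module.End F W) (v : V) : T.cr u A v = T.tp u (A (T.slot u v)) := rfl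

/-- A transvection of the first factor. -/
def tU (u : U) (t : F) : Module.End F V := 1 + T.cr u (t • 1)

theorem tU_apply (u : U) (t : F) (v : V) : T.tU u t v = v + t • T.tp u (T.slot u v) := by
  simp [tU, cr_apply]

include hb in
theorem tU_tp (u u' : U) (t : F) (x : W) : T.tU u t (T.tp u' x) = T.tp (u' + (t * T.f u u') • u) x := by
  rw [tU_apply, slot_tp hb, map_smul, smul_smul, map_add, map_smul, LinearMap.add_apply, LinearMap.smul_apply]

/-- A reflection of the second factor. -/
noncomputable def dW (w : W) : Module.End F V := 1 - (2 / b w w) • (T.tp.flip w ∘ₗ T.sl w)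

theorem dW_apply (w : W) (v : V) : T.dW w v = v - (2 / b w w) • T.tp (T.sl w v) w := by simp [dW]

theorem dW_tp (w : W) (u : U) (x : W) : T.dW w (T.tp u x) = T.tp u (refl b w x) := by
  rw [dW_apply, sl_tp, refl_apply, map_sub, map_smul, map_smul, LinearMap.smul_apply, smul_smul]

theorem dW_mul_self {w : W} (hw : b w w ≠ 0) : T.dW w * T.dW w = 1 :=
  T.end_ext fun u x => by
    rw [Module.End.mul_apply, dW_tp, dW_tp, ← Module.End.mul_apply, refl_mul_self hw, Module.End.one_apply,
      Module.End.one_apply]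

/-- A transvection of the whole space. -/
def tvV (v : V) (t : F) : Module.End F V := 1 + t • (T.φ.flip v).smulRight v

theorem tvV_apply (v : V) (t : F) (x : V) : T.tvV v t x = x + (t * T.φ x v) • v := by
  simp [tvV, smul_smul]

end TSpace

/-- A group of isometries containing the transvections of the first and reflections of the second factor. -/
structure MSetting {b : LinearMap.BilinForm F W} (T : TSpace b U V) (M : Set (Module.End F V)) : Prop where
  one : (1 : Module.End F V) ∈ M
  mul : ∀ {X Y}, X ∈ M → Y ∈ M → X * Y ∈ M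
  inv : ∀ {X}, X ∈ M → ∃ Y ∈ M, Y * X = 1
  iso : ∀ {X}, X ∈ M → ∀ v v', T.φ (X v) (X v') = T.φ v v'
  tr : ∀ u t, T.tU u t ∈ M
  refl_mem : ∀ w, b w w ≠ 0 → T.dW w ∈ M

namespace MSetting

variable {b : LinearMap.BilinForm F W} (hb : Form b) {T : TSpace b U V} {M : Set (Module.End F V)}
  (S : MSetting T M)
include S

theorem adj_of_inv {X Y : Module.End F V} (hX : X ∈ M) (hYX : Y * X = 1) (v v' : V) :
    T.φ (Y v) v' = T.φ v (X v') := by
  have h := mul_eq_one_comm.1 hYX
  rw [← S.iso hX (Y v) v', ← Module.End.mul_apply X Y, h, Module.End.one_apply]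

include hb in
theorem move {e u : U} (he : e ≠ 0) (hu : u ≠ 0) : ∃ h ∈ M, ∀ x, h (T.tp e x) = T.tp u x := by
  have one : ∀ {e u : U}, T.f e u ≠ 0 → ∃ h ∈ M, ∀ x, h (T.tp e x) = T.tp u x := by
    intro e u h
    have hd : T.f (u - e) e ≠ 0 := by simpa [T.f_alt, T.f_swap e u] using h
    refine ⟨_, S.tr (u - e) (T.f (u - e) e)⁻¹, fun x => ?_⟩
    rw [T.tU_tp hb, inv_mul_cancel₀ hd, one_smul, add_sub_cancel]
  obtain ⟨z, hez, hzu⟩ : ∃ z, T.f e z ≠ 0 ∧ T.f z u ≠ 0 := by
    obtain ⟨z₁, h1⟩ := T.f_nd e he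
    obtain ⟨z₂, h2⟩ := T.f_nd u hu
    rw [T.f_swap z₂ u, neg_ne_zero] at h2
    by_cases h3 : T.f z₁ u = 0
    · by_cases h4 : T.f e z₂ = 0
      · exact ⟨z₁ + z₂, by simp [h1, h4], by simp [h2, h3]⟩
      · exact ⟨z₂, h4, h2⟩
    · exact ⟨z₁, h1, h3⟩
  obtain ⟨h₁, m₁, e₁⟩ := one hez
  obtain ⟨h₂, m₂, e₂⟩ := one hzu
  exact ⟨h₂ * h₁, S.mul m₂ m₁, fun x => by rw [Module.End.mul_apply, e₁, e₂]⟩

/-- Some contraction of a conjugated reflection is non-zero. -/
def HasContraction (_S : MSetting T M) : Prop :=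
  ∃ X ∈ M, ∃ (e : U) (w : W), b w w ≠ 0 ∧ ∃ z y, T.f (T.sl w (X (T.tp e z))) (T.sl w (X (T.tp e y))) ≠ 0

include hb in
theorem exists_root [Fintype F] (hq : 5 ≤ Fintype.card F) (hd : finrank F W = 3) (hc : S.HasContraction) :
    ∃ e : U, e ≠ 0 ∧ ∃ B : Module.End F W, 1 + T.cr e B ∈ M ∧ ∀ l : F, B ≠ l • 1 := by
  classical
  obtain ⟨X, hX, e, w, hw, z, y, hzy⟩ := hc
  have he : e ≠ 0 := fun h => hzy (by simp [h])
  obtain ⟨X', hX', hXX⟩ := S.inv hX
  set g := X' * T.dW w * X with hg
  have hXX' := mul_eq_one_comm.1 hXX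
  have gg : g * g = 1 := by
    rw [hg, show X' * T.dW w * X * (X' * T.dW w * X) = X' * (T.dW w * (X * X') * T.dW w) * X by
      simp only [mul_assoc], hXX', mul_one, T.dW_mul_self hw, mul_one, hXX]
  have gmem : g ∈ M := S.mul (S.mul hX' (S.refl_mem w hw)) hX
  set α : Module.End F W := T.slot e ∘ₗ g ∘ₗ T.tp e with hα
  have hαb : ∀ z y, b z (α y) = T.φ (T.tp e z) (g (T.tp e y)) := fun z y => T.b_slot _ _ _
  have skew : ∀ x y, b (α x) y = -b x (α y) := fun x y => by
    rw [hb.symm, hαb, hαb, ← T.φ_swap]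
    conv_lhs => rw [← S.iso gmem, ← Module.End.mul_apply g g, gg, Module.End.one_apply]
  have hne : α ≠ 0 := by
    intro h
    have h1 := hαb z y
    rw [h, LinearMap.zero_apply, map_zero, hg, Module.End.mul_apply, Module.End.mul_apply, T.φ_swap,
      S.adj_of_inv hX hXX, ← T.φ_swap, T.dW_apply, map_sub, S.iso hX, T.φ_tp, T.f_alt, zero_mul, zero_sub,
      map_smul, T.φ_slice, smul_eq_mul, eq_comm, neg_eq_zero] at h1
    exact hzy ((mul_eq_zero.1 h1).resolve_left (div_ne_zero hb.two hw))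
  obtain ⟨h2, ⟨σ, hσ⟩, x₀, hx₀, hx₀'⟩ := skew_three hb hd skew hne
  have hnu : ¬ IsUnit α := fun hu => hx₀ <| by
    obtain ⟨v, hv⟩ := hu
    have := congrArg (fun A : Module.End F W => A x₀) (Units.inv_mul v)
    simp only [Module.End.mul_apply, hv, hx₀', map_zero, Module.End.one_apply] at this
    exact this.symm
  have D : CornerData (T.cr e) g α M :=
    { cc := fun A B => LinearMap.ext fun v => by
        simp [Module.End.mul_apply, T.cr_apply, T.slot_tp hb, T.f_alt]
      cgc := fun A B => LinearMap.ext fun v => by simp [Module.End.mul_apply, T.cr_apply, hα]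
      gg := gg
      g_mem := gmem
      mul := S.mul
      one_add := fun t => S.tr e t }
  obtain ⟨t, -, ht⟩ := Finset.exists_mem_notMem_of_card_lt_card (s := ({0, 1, -1} : Finset F))
    (t := Finset.univ) (lt_of_le_of_lt Finset.card_le_three (by rw [Finset.card_univ]; omega))
  simp only [Finset.mem_insert, Finset.mem_singleton, not_or] at ht
  exact ⟨e, he, D.exists_root hb.two hσ h2 hnu ht.1 fun h => by
    rcases mul_self_eq_one_iff.1 h with h1 | h1
    exacts [ht.2.1 h1, ht.2.2 h1]⟩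

end MSetting

end CfsgLib.TensorSympMax
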