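import Cfsg.Agent.Lib.TensorSympMax.Many.Main
import Cfsg.Agent.Lib.TensorSympMax.Transfer

/-!
Maximality of the stabiliser of a decomposition as a symplectic space tensor a three-dimensional
orthogonal space.
-/

set_option autoImplicit false
set_option linter.unusedSectionVars false
set_option linter.unusedSimpArgs false

namespace CfsgLib.TensorSympMax.ManyTransfer

open Matrix Module
open CfsgLib.Maximal
open CfsgLib.TensorSympMax (Form TSpace MSetting refl)
open scoped Kronecker

variable {F : Type*} [Field F] {m n₁ : ℕ}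
  {e : (Fin m ⊕ Fin m) ≃ Fin n₁ × Fin 3} {P : GL (Fin m ⊕ Fin m) F}

local notation "U₀" => (Fin n₁ → F)
local notation "W₀" => (Fin 3 → F)
local notation "V₀" => (Fin m ⊕ Fin m → F)

/-- A pure tensor in coordinates. -/
noncomputable def tp (e : (Fin m ⊕ Fin m) ≃ Fin n₁ × Fin 3) (P : GL (Fin m ⊕ Fin m) F) : U₀ →ₗ[F] W₀ →ₗ[F] V₀ :=
  LinearMap.mk₂ F (fun u x => TensorTools.coord e P (TensorTools.pure u x))
    (fun u u' x => by rw [← map_add]; congr 1; funext a; simp [TensorTools.pure, add_mul])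
    (fun c u x => by rw [← map_smul]; congr 1; funext a; simp [TensorTools.pure, mul_assoc])
    (fun u x x' => by rw [← map_add]; congr 1; funext a; simp [TensorTools.pure, mul_add])
    (fun c u x => by rw [← map_smul]; congr 1; funext a; simp [TensorTools.pure, mul_left_comm])

theorem tp_apply (u : U₀) (x : W₀) : tp e P u x = TensorTools.coord e P (TensorTools.pure u x) := rfl

theorem span_tp (S : Submodule F V₀) (h : ∀ u x, tp e P u x ∈ S) : S = ⊤ := by
  refine eq_top_iff.2 fun v _ => ?_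
  obtain ⟨y, rfl⟩ := (TensorTools.coord e P).surjective v
  rw [pi_eq_sum_univ' y, map_sum]
  refine S.sum_mem fun a _ => ?_
  rw [map_smul]
  refine S.smul_mem _ ?_
  convert h (Pi.single a.1 1) (Pi.single a.2 1) using 1
  rw [tp_apply]
  congr 1
  funext ⟨i, j⟩
  rcases a with ⟨i', j'⟩
  by_cases h1 : i = i' <;> by_cases h2 : j = j' <;> simp [TensorTools.pure, Pi.single_apply, h1, h2]

theorem linear_ext {Z : Type*} [AddCommGroup Z] [Module F Z] {L L' : V₀ →ₗ[F] Z}
    (h : ∀ u x, L (tp e P u x) = L' (tp e P u x)) (v : V₀) : L v = L' v := by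
  have hv : v ∈ LinearMap.eqLocus L L' := by
    rw [span_tp (LinearMap.eqLocus L L') fun u x => h u x]
    exact Submodule.mem_top
  exact hv

variable {f₁ : (Fin n₁ → F) → (Fin n₁ → F) → F} {f₂ : (Fin 3 → F) → (Fin 3 → F) → F}

/-- The coordinates of a row. -/
noncomputable def row (e : (Fin m ⊕ Fin m) ≃ Fin n₁ × Fin 3) (P : GL (Fin m ⊕ Fin m) F) (k : Fin n₁) :
    V₀ →ₗ[F] W₀ where
  toFun v j := (TensorTools.coord e P).symm v (k, j)
  map_add' v v' := by funext j; simp
  map_smul' c v := by funext j; simp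

theorem row_tp (u : U₀) (x : W₀) (k : Fin n₁) : row e P k (tp e P u x) = u k • x := by
  funext j
  simp [row, tp_apply, TensorTools.pure]

/-- The decomposition as an abstract tensor space. -/
noncomputable def space (h₁ : Cfsg.Geo.IsSymplecticForm f₁) {b : LinearMap.BilinForm F W₀}
    (hc : ∀ u x u' y, Cfsg.sympForm m F (tp e P u x) (tp e P u' y) = f₁ u u' * b x y) : TSpace b U₀ V₀ where
  f := GeomClasses.Symp.bil h₁
  φ := GeomClasses.Symp.bil (GeomClasses.Symp.isSymplecticForm_sympForm m)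
  tp := tp e P
  sl := LinearMap.mk₂ F (fun w v k => b w (row e P k v))
    (fun w w' v => by funext k; simp) (fun c w v => by funext k; simp)
    (fun w v v' => by funext k; simp) (fun c w v => by funext k; simp)
  slot := LinearMap.mk₂ F (fun u v => ∑ k, f₁ u (Pi.single k 1) • row e P k v)
    (fun u u' v => by simp [h₁.bilinear.add_left, add_smul, Finset.sum_add_distrib])
    (fun c u v => by simp [h₁.bilinear.smul_left, mul_smul, Finset.smul_sum])
    (fun u v v' => by simp [smul_add, Finset.sum_add_distrib])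
    (fun c u v => by simp [Finset.smul_sum, smul_comm c])
  f_alt := h₁.alternating
  f_nd u hu := (h₁.nondegenerate u hu).2
  φ_alt := (GeomClasses.Symp.isSymplecticForm_sympForm m).alternating
  φ_nd v hv := by
    by_contra hne
    obtain ⟨x, hx⟩ := ((GeomClasses.Symp.isSymplecticForm_sympForm m).nondegenerate v hne).2
    exact hx (hv x)
  f_sl u w v := by
    refine linear_ext (e := e) (P := P) (L := (GeomClasses.Symp.bil h₁ u) ∘ₗ (LinearMap.mk₂ F
      (fun (w : W₀) (v : V₀) (k : Fin n₁) => b w (row e P k v)) (fun w w' v => by funext k; simp)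
      (fun c w v => by funext k; simp) (fun w v v' => by funext k; simp) (fun c w v => by funext k; simp) w))
      (L' := GeomClasses.Symp.bil (GeomClasses.Symp.isSymplecticForm_sympForm m) (tp e P u w))
      (fun u' x => ?_) v
    simp only [LinearMap.comp_apply, LinearMap.mk₂_apply, GeomClasses.Symp.bil_apply, row_tp, map_smul,
      smul_eq_mul, hc]
    rw [show (fun k => u' k * b w x) = b w x • u' by funext k; simp [mul_comm], h₁.bilinear.smul_right, mul_comm]
  b_slot u w v := by
    refine linear_ext (e := e) (P := P) (L := (b w) ∘ₗ (LinearMap.mk₂ F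
      (fun (u : U₀) (v : V₀) => ∑ k, f₁ u (Pi.single k 1) • row e P k v)
      (fun u u' v => by simp [h₁.bilinear.add_left, add_smul, Finset.sum_add_distrib])
      (fun c u v => by simp [h₁.bilinear.smul_left, mul_smul, Finset.smul_sum])
      (fun u v v' => by simp [smul_add, Finset.sum_add_distrib])
      (fun c u v => by simp [Finset.smul_sum, smul_comm c]) u))
      (L' := GeomClasses.Symp.bil (GeomClasses.Symp.isSymplecticForm_sympForm m) (tp e P u w))
      (fun u' x => ?_) v
    simp only [LinearMap.comp_apply, LinearMap.mk₂_apply, GeomClasses.Symp.bil_apply, row_tp, hc, smul_smul,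
      ← Finset.sum_smul, map_smul, smul_eq_mul]
    congr 1
    show ∑ k, GeomClasses.Symp.bil h₁ u (Pi.single k 1) * u' k = GeomClasses.Symp.bil h₁ u u'
    conv_rhs => rw [pi_eq_sum_univ' u', map_sum]
    exact Finset.sum_congr rfl fun k _ => by rw [map_smul, smul_eq_mul, mul_comm]
  φ_tp := hc
  total := span_tp

/-- An element of the tensor stabiliser with given factors. -/
theorem exists_elem (e : (Fin m ⊕ Fin m) ≃ Fin n₁ × Fin 3) (P : GL (Fin m ⊕ Fin m) F)
    (A : Module.End F U₀) (B : Module.End F W₀) (hA : Function.Injective A) (hB : Function.Injective B) :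
    ∃ g ∈ Cfsg.Geo.tensorProductSubgroup n₁ 3 e P, ∀ u x,
      (g : Matrix (Fin m ⊕ Fin m) (Fin m ⊕ Fin m) F) *ᵥ tp e P u x = tp e P (A u) (B x) := by
  have mk : ∀ {k : ℕ} (A : Module.End F (Fin k → F)), Function.Injective A →
      ∃ a : GL (Fin k) F, (a : Matrix (Fin k) (Fin k) F) = LinearMap.toMatrix' A := by
    intro k A hA
    obtain ⟨C, hC⟩ := LinearMap.exists_leftInverse_of_injective A (LinearMap.ker_eq_bot.2 hA)
    have h : LinearMap.toMatrix' C * LinearMap.toMatrix' A = 1 := by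
      rw [← LinearMap.toMatrix'_comp, hC, LinearMap.toMatrix'_id]
    exact ⟨⟨_, _, mul_eq_one_comm.1 h, h⟩, rfl⟩
  obtain ⟨a, ha⟩ := mk A hA
  obtain ⟨c, hc⟩ := mk B hB
  let k : GL (Fin n₁ × Fin 3) F :=
    ⟨(a : Matrix _ _ F) ⊗ₖ (c : Matrix _ _ F), ((a⁻¹ : GL _ F) : Matrix _ _ F) ⊗ₖ ((c⁻¹ : GL _ F) : Matrix _ _ F),
      by rw [← Matrix.mul_kronecker_mul, ← Units.val_mul, ← Units.val_mul, mul_inv_cancel, mul_inv_cancel,
        Units.val_one, Units.val_one, Matrix.one_kronecker_one],
      by rw [← Matrix.mul_kronecker_mul, ← Units.val_mul, ← Units.val_mul, inv_mul_cancel, inv_mul_cancel,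
        Units.val_one, Units.val_one, Matrix.one_kronecker_one]⟩
  refine ⟨MulAut.conj P (Cfsg.Geo.glReindex e.symm k),
    Subgroup.mem_map_of_mem _ (Subgroup.mem_map_of_mem _ ⟨a, c, rfl⟩), fun u x => ?_⟩
  rw [tp_apply, TensorTools.conj_reindex_mulVec, TensorTools.kronecker_mulVec_pure, ha, hc,
    LinearMap.toMatrix'_mulVec, LinearMap.toMatrix'_mulVec]
  rfl

theorem eq_of_tp {g g' : GL (Fin m ⊕ Fin m) F}
    (h : ∀ u x, (g : Matrix (Fin m ⊕ Fin m) (Fin m ⊕ Fin m) F) *ᵥ tp e P u x =
      (g' : Matrix (Fin m ⊕ Fin m) (Fin m ⊕ Fin m) F) *ᵥ tp e P u x) : g = g' :=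
  Units.ext (Matrix.ext_iff_mulVec.2 fun v =>
    linear_ext (L := Matrix.toLin' (g : Matrix (Fin m ⊕ Fin m) (Fin m ⊕ Fin m) F))
      (L' := Matrix.toLin' (g' : Matrix (Fin m ⊕ Fin m) (Fin m ⊕ Fin m) F)) (fun u x => h u x) v)

/-- The stabiliser of a decomposition as a symplectic space tensor a three-dimensional orthogonal space is maximal. -/
theorem isMaximalIn [Fintype F] (hodd : Odd (Fintype.card F)) (hq : 5 ≤ Fintype.card F) (hn₁ : 2 ≤ n₁)
    (e : (Fin m ⊕ Fin m) ≃ Fin n₁ × Fin 3) (P : GL (Fin m ⊕ Fin m) F)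
    (h₁ : Cfsg.Geo.IsSymplecticForm f₁) (h₂ : Cfsg.Geo.IsSymmetricForm f₂)
    (hT : Cfsg.Geo.IsTensorFormStructure id (Cfsg.sympForm m F) f₁ f₂ e P) :
    Cfsg.Geo.IsMaximalIn (Cfsg.spGL m F) (Cfsg.Geo.tensorProductSubgroup n₁ 3 e P ⊓ Cfsg.spGL m F) := by
  have h2 : (2 : F) ≠ 0 := Ring.two_ne_zero fun h =>
    Nat.not_odd_iff.2 (FiniteField.even_card_iff_char_two.1 h) hodd
  obtain ⟨c, hc0, hc⟩ := TensorTools.tensor_form_pure h₁.bilinear h₂.bilinear hT
  set b := Transfer.form h₂ c with hbdef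
  have hb : Form b := Transfer.form_form h₂ hc0 h2
  have hc' : ∀ u x u' y, Cfsg.sympForm m F (tp e P u x) (tp e P u' y) = f₁ u u' * b x y := fun u x u' y => by
    rw [tp_apply, tp_apply, hc]
    simp [hbdef, Transfer.form]
    ring
  set T := space h₁ hc' with hTdef
  haveI : Nontrivial (Fin n₁ → F) := Module.finrank_pos_iff.1 (by rw [Module.finrank_fin_fun]; omega : 0 < _)
  have hd : finrank F (Fin 3 → F) = 3 := Module.finrank_fin_fun F
  have hs := GeomClasses.Symp.isSymplecticForm_sympForm (F := F) m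
  have inH : ∀ (A : Module.End F (Fin n₁ → F)) (B : Module.End F (Fin 3 → F)), Function.Injective A →
      Function.Injective B → (∀ u u' x y, f₁ (A u) (A u') * b (B x) (B y) = f₁ u u' * b x y) →
      ∃ g ∈ Cfsg.Geo.tensorProductSubgroup n₁ 3 e P ⊓ Cfsg.spGL m F,
        ∀ u x, (g : Matrix _ _ F) *ᵥ tp e P u x = tp e P (A u) (B x) := by
    intro A B hA hB hiso
    obtain ⟨g, hg, hgt⟩ := exists_elem e P A B hA hB
    refine ⟨g, ⟨hg, fun x y => ?_⟩, hgt⟩
    show Cfsg.sympForm m F ((g : Matrix _ _ F) *ᵥ x) ((g : Matrix _ _ F) *ᵥ y) = Cfsg.sympForm m F x y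
    refine linear_ext (e := e) (P := P) (L := (GeomClasses.Symp.bil hs).flip ((g : Matrix _ _ F) *ᵥ y) ∘ₗ
      Matrix.toLin' (g : Matrix _ _ F)) (L' := (GeomClasses.Symp.bil hs).flip y) (fun u a => ?_) x
    refine linear_ext (e := e) (P := P) (L := (GeomClasses.Symp.bil hs ((g : Matrix _ _ F) *ᵥ tp e P u a)) ∘ₗ
      Matrix.toLin' (g : Matrix _ _ F)) (L' := GeomClasses.Symp.bil hs (tp e P u a)) (fun u' a' => ?_) y
    show Cfsg.sympForm m F ((g : Matrix _ _ F) *ᵥ tp e P u a) ((g : Matrix _ _ F) *ᵥ tp e P u' a') =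
      Cfsg.sympForm m F (tp e P u a) (tp e P u' a')
    rw [hgt, hgt, hc', hc', hiso]
  refine ⟨lt_of_le_of_ne inf_le_right fun heq => ?_, fun M hM hM' => ?_⟩
  · obtain ⟨u₀, hu₀⟩ := exists_ne (0 : Fin n₁ → F)
    obtain ⟨u₁, hu₁⟩ := (h₁.nondegenerate u₀ hu₀).1
    obtain ⟨w, hw⟩ : ∃ w, b w w ≠ 0 := by
      haveI : Invertible (2 : F) := invertibleOfNonzero h2
      obtain ⟨x, hx⟩ := LinearMap.BilinForm.exists_bilinForm_self_ne_zero (B := b)
        (fun h0 => by
          obtain ⟨y, hy⟩ := exists_ne (0 : Fin 3 → F)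
          exact hy (hb.nondeg.1 y fun z => by rw [h0]; rfl)) ⟨hb.symm⟩
      exact ⟨x, hx⟩
    obtain ⟨x, hx0, hxw, -⟩ := exists_perp_two (b := b) w w hd.ge
    have hmem : GeomClasses.formTv (Cfsg.sympForm m F) (tp e P u₀ w) 1 ∈
        Cfsg.Geo.tensorProductSubgroup n₁ 3 e P ⊓ Cfsg.spGL m F :=
      heq.symm ▸ GeomClasses.Symp.formTv_mem_spGL m _ _
    obtain ⟨a, d, had⟩ := TensorTools.exists_factors hmem.1
    have act : ∀ u y, tp e P ((a : Matrix (Fin n₁) (Fin n₁) F) *ᵥ u) ((d : Matrix (Fin 3) (Fin 3) F) *ᵥ y) =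
        tp e P u y + (f₁ u u₀ * b y w) • tp e P u₀ w := fun u y => by
      rw [tp_apply ((a : Matrix (Fin n₁) (Fin n₁) F) *ᵥ u), ← had u y, ← tp_apply, GeomClasses.Symp.formTv_mulVec hs, hc', one_mul]
    set du := (d : Matrix (Fin 3) (Fin 3) F) *ᵥ w
    have e1 := congrArg (T.slot u₀) (act u₁ x)
    have e2 := congrArg (T.slot u₀) (act u₁ w)
    have e3 := congrArg (T.sl w) (act u₁ x)
    have e4 := congrArg (T.sl w) (act u₁ w)
    have hxw' : b x w = 0 := by rw [hb.symm, hxw]
    rw [hxw', mul_zero, zero_smul, add_zero] at e1 e3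
    set a₁ := (a : Matrix (Fin n₁) (Fin n₁) F) *ᵥ u₁
    set dx := (d : Matrix (Fin 3) (Fin 3) F) *ᵥ x
    have s : ∀ u y, T.sl w (tp e P u y) = b w y • u := fun u y => T.sl_tp w u y
    have t : ∀ u y, T.slot u₀ (tp e P u y) = f₁ u₀ u • y := fun u y => T.slot_tp hb u₀ u y
    rw [s, s, hxw, zero_smul] at e3
    rw [t, t] at e1
    rw [map_add, map_smul, t, t, t, h₁.alternating, zero_smul, smul_zero, add_zero] at e2
    rw [map_add, map_smul, s, s, s] at e4
    have hu₁' : f₁ u₀ u₁ ≠ 0 := by rw [h₁.skew, neg_ne_zero]; exact hu₁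
    have hf : f₁ u₀ a₁ ≠ 0 := fun h => hx0 (by
      rw [h, zero_smul] at e1
      exact (smul_eq_zero.1 e1.symm).resolve_left hu₁')
    have hdx : dx = (f₁ u₀ a₁)⁻¹ • (f₁ u₀ u₁ • x) := by rw [← e1, smul_smul, inv_mul_cancel₀ hf, one_smul]
    have hdu : du = (f₁ u₀ a₁)⁻¹ • (f₁ u₀ u₁ • w) := by rw [← e2, smul_smul, inv_mul_cancel₀ hf, one_smul]
    obtain ⟨z, hz⟩ : ∃ z, b z x ≠ 0 := by
      by_contra hcon
      push Not at hcon
      exact hx0 (hb.nondeg.1 x fun y => by rw [hb.symm]; exact hcon y)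
    have e5 := congrArg (T.sl z) (act u₁ x)
    have s' : ∀ u y, T.sl z (tp e P u y) = b z y • u := fun u y => T.sl_tp z u y
    rw [hxw', mul_zero, zero_smul, add_zero, s', s'] at e5
    rw [show (d : Matrix (Fin 3) (Fin 3) F) *ᵥ x = dx from rfl, hdx] at e5
    rw [show (d : Matrix (Fin 3) (Fin 3) F) *ᵥ w = du from rfl, hdu] at e4
    simp only [map_smul, smul_eq_mul] at e4 e5
    have ha1 : a₁ = (f₁ u₀ a₁ / f₁ u₀ u₁) • u₁ := by
      have h := congrArg (fun y => (f₁ u₀ a₁ / (f₁ u₀ u₁ * b z x)) • y) e5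
      simp only [smul_smul] at h
      rw [show f₁ u₀ a₁ / (f₁ u₀ u₁ * b z x) * ((f₁ u₀ a₁)⁻¹ * (f₁ u₀ u₁ * b z x)) = 1 by field_simp,
        one_smul] at h
      refine h.trans (congrArg (fun t : F => t • u₁) ?_)
      field_simp
    set l := f₁ u₀ a₁ / f₁ u₀ u₁ with hl
    rw [ha1, smul_smul] at e4
    have h5 := congrArg (fun y => f₁ u₀ y) e4
    have h6 := congrArg (fun y => f₁ u₁ y) e4
    simp only [h₁.bilinear.smul_right, h₁.bilinear.add_right, h₁.alternating, mul_zero, add_zero, zero_add] at h5 h6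
    rcases mul_eq_zero.1 h6.symm with h7 | h7
    · exact mul_ne_zero hu₁ hw h7
    · exact mul_ne_zero hw hu₁ h7
  · have S : MSetting T {X | ∃ g ∈ M, X = Matrix.toLin' (g : Matrix _ _ F)} :=
      { one := ⟨1, M.one_mem, by rw [Units.val_one, Matrix.toLin'_one]; rfl⟩
        mul := by
          rintro X Y ⟨g, hg, rfl⟩ ⟨g', hg', rfl⟩
          exact ⟨g * g', M.mul_mem hg hg', by rw [Units.val_mul, Matrix.toLin'_mul]; rfl⟩
        inv := by
          rintro X ⟨g, hg, rfl⟩
          exact ⟨_, ⟨g⁻¹, M.inv_mem hg, rfl⟩, by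
            rw [Module.End.mul_eq_comp, ← Matrix.toLin'_mul, ← Units.val_mul, inv_mul_cancel, Units.val_one,
              Matrix.toLin'_one, Module.End.one_eq_id]⟩
        iso := by
          rintro X ⟨g, hg, rfl⟩ v v'
          exact hM' hg v v'
        tr := by
          intro u t
          let A : Module.End F (Fin n₁ → F) := 1 + t • (GeomClasses.Symp.bil h₁ u).smulRight u
          have hA : ∀ v, A v = v + (t * f₁ u v) • u := fun v => by simp [A, smul_smul]
          have hinj : Function.Injective A := by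
            rw [← LinearMap.ker_eq_bot, LinearMap.ker_eq_bot']
            intro v hv
            rw [hA] at hv
            have h := congrArg (fun y => f₁ u y) hv
            simp only [h₁.bilinear.add_right, h₁.bilinear.smul_right, h₁.alternating, mul_zero, add_zero] at h
            rwa [show f₁ u v = 0 by rw [h]; exact GeomClasses.Symp.zero_right h₁ u, mul_zero, zero_smul,
              add_zero] at hv
          obtain ⟨g, hg, hgt⟩ := inH A 1 hinj Function.injective_id fun v v' x y => by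
            simp only [hA, Module.End.one_apply, h₁.bilinear.add_left, h₁.bilinear.add_right,
              h₁.bilinear.smul_left, h₁.bilinear.smul_right, h₁.alternating, h₁.skew v u]
            ring
          refine ⟨g, hM hg, T.end_ext fun v x => ?_⟩
          rw [T.tU_tp hb, Matrix.toLin'_apply]
          exact ((hgt v x).trans (by rw [hA]; rfl)).symm
        refl_mem := by
          intro w hw
          obtain ⟨g, hg, hgt⟩ := inH 1 (refl b w) Function.injective_id
            (Function.LeftInverse.injective (g := refl b w) fun y => by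
              rw [← Module.End.mul_apply, refl_mul_self hw, Module.End.one_apply])
            fun v v' x y => by rw [refl_isometry hb hw]; rfl
          refine ⟨g, hM hg, T.end_ext fun v x => ?_⟩
          rw [T.dW_tp, Matrix.toLin'_apply]
          exact (hgt v x).symm }
    rcases S.dichotomy hb hq hd with h | h
    · refine Or.inl (le_antisymm (fun g hg => ⟨?_, hM' hg⟩) hM)
      obtain ⟨A, B, hA, hB, hAB⟩ := h _ ⟨g, hg, rfl⟩
      obtain ⟨g', hg', hgt⟩ := exists_elem e P A B hA hB
      rw [eq_of_tp (g := g) (g' := g') fun u x => (hAB u x).trans (hgt u x).symm]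
      exact hg'
    · refine Or.inr (GeomClasses.Symp.eq_spGL_of_centres hM' fun v t => ?_)
      obtain ⟨g, hg, hgt⟩ := h v t
      convert hg using 1
      refine Units.ext (Matrix.ext_iff_mulVec.2 fun y => ?_)
      rw [GeomClasses.Symp.formTv_mulVec hs]
      have := LinearMap.congr_fun hgt y
      rw [T.tvV_apply] at this
      exact this

end CfsgLib.TensorSympMax.ManyTransfer
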